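import Cfsg.Agent.H117.TL
import Cfsg.Agent.H957.TL.Glue

/-!
# Theorem L (S2464): the cyclic case `A = a * (regular unipotent)` (helper130)

`F` has an element different from `0, 1`, `n ≥ 3`, `f`, `g` arbitrary monic of degree `n` with `f(0) g(0) = a ^ n`.
Model: `ρ 0 = 1, …, ρ (n-2)` monic with roots `β`, `ρ (n-1)` determined by `f`, `g`; `Y ρ (j+1) = ρ j`, `X` = multiplication by the
variable modulo `f`; then `X Y` is regular unipotent.
-/

set_option autoImplicit false

namespace Cfsg.Agent.H130.TL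

open Module Polynomial
open Cfsg.Agent.H117.TL (Cyc charpoly_eq)

variable {F : Type*} [Field F]

/-- the Newton polynomials -/
noncomputable def rho (β : ℕ → F) : ℕ → F[X]
  | 0 => 1
  | j + 1 => (X - C (β j)) * rho β j

theorem rho_monic (β : ℕ → F) (j : ℕ) : (rho β j).Monic ∧ (rho β j).natDegree = j := by
  induction j with
  | zero => exact ⟨monic_one, natDegree_one⟩
  | succ j ih =>
    refine ⟨(monic_X_sub_C _).mul ih.1, ?_⟩
    rw [rho, (monic_X_sub_C _).natDegree_mul ih.1, natDegree_X_sub_C, ih.2, add_comm]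

theorem rho_coeff_self (β : ℕ → F) (j : ℕ) : (rho β j).coeff j = 1 := by
  have h := (rho_monic β j).1.coeff_natDegree
  rwa [(rho_monic β j).2] at h

theorem rho_coeff_gt (β : ℕ → F) {j i : ℕ} (h : j < i) : (rho β j).coeff i = 0 :=
  coeff_eq_zero_of_natDegree_lt (by rw [(rho_monic β j).2]; exact h)

theorem rho_next (β : ℕ → F) (j : ℕ) : (rho β (j + 1)).coeff j = -∑ i ∈ Finset.range (j + 1), β i := by
  induction j with
  | zero => simp [rho]
  | succ j ih =>
    rw [rho, sub_mul, coeff_sub, coeff_X_mul, coeff_C_mul, ih, rho_coeff_self, Finset.sum_range_succ _ (j + 1)]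
    ring

theorem newton0 (β : ℕ → F) : ∀ (m : ℕ) (r : F[X]), (∀ j, m ≤ j → r.coeff j = 0) →
    ∃ u : ℕ → F, r = ∑ i ∈ Finset.range m, C (u i) * rho β i
  | 0, r, h => ⟨0, by
      rw [Finset.range_zero, Finset.sum_empty]
      ext j
      rw [h j (Nat.zero_le _), coeff_zero]⟩
  | m + 1, r, h => by
    obtain ⟨u, hu⟩ := newton0 β m (r - C (r.coeff m) * rho β m) (by
      intro j hj
      rw [coeff_sub, coeff_C_mul]
      rcases Nat.lt_or_ge m j with h1 | h1
      · rw [h j h1, rho_coeff_gt β h1, mul_zero, sub_zero]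
      · rw [le_antisymm h1 hj, rho_coeff_self, mul_one, sub_self])
    refine ⟨fun i => if i = m then r.coeff m else u i, ?_⟩
    have h1 : ∑ i ∈ Finset.range m, C (if i = m then r.coeff m else u i) * rho β i =
        ∑ i ∈ Finset.range m, C (u i) * rho β i := by
      refine Finset.sum_congr rfl fun i hi => ?_
      rw [if_neg (by have := Finset.mem_range.1 hi; omega)]
    rw [Finset.sum_range_succ, h1, ← hu]
    simp only [if_true]
    ring

theorem newton (β : ℕ → F) (m : ℕ) (r : F[X]) (h : ∀ j, m + 1 ≤ j → r.coeff j = 0) :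
    ∃ u : ℕ → F, r = ∑ i ∈ Finset.range (m + 1), C (u i) * rho β i ∧ u m = r.coeff m := by
  obtain ⟨u, hu⟩ := newton0 β (m + 1) r h
  refine ⟨u, hu, ?_⟩
  conv_rhs => rw [hu]
  rw [finsetSum_coeff, Finset.sum_range_succ, coeff_C_mul, rho_coeff_self, mul_one,
    Finset.sum_eq_zero, zero_add]
  intro i hi
  rw [coeff_C_mul, rho_coeff_gt β (Finset.mem_range.1 hi), mul_zero]

section model

variable {n : ℕ}

/-- the standard basis with indices in `ℕ` -/
def bb (F : Type*) [Field F] (n : ℕ) (j : ℕ) : Fin n → F := fun i => if (i : ℕ) = j then 1 else 0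

theorem bb_basis (i : Fin n) : (Pi.basisFun F (Fin n)) i = bb F n i := by
  funext j
  rw [Pi.basisFun_apply, bb, Pi.single_apply]
  simp only [Fin.ext_iff]

/-- the operator with prescribed values on the standard basis -/
noncomputable def op (w : ℕ → Fin n → F) : End F (Fin n → F) :=
  (Pi.basisFun F (Fin n)).constr F (fun i => w i)

theorem op_apply (w : ℕ → Fin n → F) {j : ℕ} (hj : j < n) : op w (bb F n j) = w j := by
  rw [show bb F n j = bb F n ((⟨j, hj⟩ : Fin n) : ℕ) from rfl, ← bb_basis, op, Basis.constr_basis]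

theorem op_ext {S T : End F (Fin n → F)} (h : ∀ j, j < n → S (bb F n j) = T (bb F n j)) : S = T := by
  refine (Pi.basisFun F (Fin n)).ext fun i => ?_
  rw [bb_basis]
  exact h i i.2

theorem bb_ne {j : ℕ} (hj : j < n) : bb F n j ≠ 0 := by
  intro h
  have := congrFun h ⟨j, hj⟩
  rw [bb, if_pos rfl] at this
  exact one_ne_zero this

theorem top_of_bb {U : Submodule F (Fin n → F)} (h : ∀ j, j < n → bb F n j ∈ U) : U = ⊤ := by
  rw [eq_top_iff, ← (Pi.basisFun F (Fin n)).span_eq, Submodule.span_le]
  rintro _ ⟨i, rfl⟩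
  rw [bb_basis]
  exact h i i.2

end model

section

variable {k : ℕ}

/-- **the model** -/
theorem model {f : F[X]} (hf : f.Monic) (hfn : f.natDegree = k + 3) {g : F[X]} (hg : g.Monic)
    (hgn : g.natDegree = k + 3) {a : F} (ha : a ≠ 0) (h0 : f.coeff 0 * g.coeff 0 = a ^ (k + 3)) (h3 : ∃ t : F, t ≠ 0 ∧ t ≠ 1) :
    ∃ S T N : End F (Fin (k + 3) → F), S * T = a • (1 + N) ∧ S.charpoly = f ∧ T.charpoly = g ∧
      N ^ (k + 3) = 0 ∧ N ^ (k + 2) ≠ 0 := by
  classical
  -- the scaled coefficients of `g`
  set gt : ℕ → F := fun i => g.coeff i * a ^ i / a ^ (k + 3) with hgt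
  have hak : a ^ (k + 3) ≠ 0 := pow_ne_zero _ ha
  have hg0 : g.coeff 0 ≠ 0 := by
    intro h
    rw [h, mul_zero] at h0
    exact hak h0.symm
  have hgt0 : gt 0 ≠ 0 := by
    rw [hgt]
    simp only [pow_zero, mul_one]
    exact div_ne_zero hg0 hak
  have hgf : gt 0 * f.coeff 0 = 1 := by
    rw [hgt]
    simp only [pow_zero, mul_one]
    rw [div_mul_eq_mul_div, mul_comm, h0, div_self hak]
  -- the choice of `s`
  obtain ⟨s, hs0, hs⟩ : ∃ s : F, s ≠ 0 ∧ -(s + (k : F)) - f.coeff (k + 2) + (gt 0)⁻¹ * gt 1 ≠ 0 := by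
    obtain ⟨t, ht0, ht1⟩ := h3
    by_cases h : -(1 + (k : F)) - f.coeff (k + 2) + (gt 0)⁻¹ * gt 1 = 0
    · refine ⟨t, ht0, fun h' => ht1 ?_⟩
      linear_combination h - h'
    · exact ⟨1, one_ne_zero, h⟩
  set β : ℕ → F := fun i => if i = 0 then s else 1 with hβ
  have hβ0 : ∀ i, β i ≠ 0 := by
    intro i
    rw [hβ]
    simp only
    split_ifs
    · exact hs0
    · exact one_ne_zero
  have hβs : ∑ i ∈ Finset.range (k + 1), β i = s + k := by
    rw [Finset.sum_range_succ', hβ]
    simp [add_comm]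
  set ρ := rho β with hρ
  -- the last polynomial
  set D : F[X] := (C (gt 0) * f - 1).divX with hD
  set R : F[X] := C (gt 0)⁻¹ * (D - ∑ i ∈ Finset.range (k + 2), C (gt (i + 1)) * ρ (k + 1 - i)) with hR
  have hDf : C (gt 0) * f = 1 + X * D := by
    have h1 := divX_mul_X_add (C (gt 0) * f - 1)
    have h2 : (C (gt 0) * f - 1).coeff 0 = 0 := by
      rw [coeff_sub, coeff_C_mul, hgf, coeff_one_zero, sub_self]
    rw [h2, C_0, add_zero, ← hD] at h1
    rw [mul_comm X D, h1]
    ring
  have hDR : D = C (gt 0) * R + ∑ i ∈ Finset.range (k + 2), C (gt (i + 1)) * ρ (k + 1 - i) := by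
    rw [hR, ← mul_assoc, ← C_mul, mul_inv_cancel₀ hgt0, C_1, one_mul, sub_add_cancel]
  have hDc : ∀ j, D.coeff j = gt 0 * f.coeff (j + 1) := by
    intro j
    rw [hD, coeff_divX, coeff_sub, coeff_C_mul, coeff_one, if_neg (by omega), sub_zero]
  have hfc : f.coeff (k + 3) = 1 := by
    rw [← hfn]
    exact hf.coeff_natDegree
  have hRc : ∀ j, k + 2 ≤ j → R.coeff j = f.coeff (j + 1) := by
    intro j hj
    rw [hR, coeff_C_mul, coeff_sub, hDc, finsetSum_coeff, Finset.sum_eq_zero, sub_zero, ← mul_assoc,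
      inv_mul_cancel₀ hgt0, one_mul]
    intro i _
    rw [coeff_C_mul, hρ, rho_coeff_gt β (by omega), mul_zero]
  have hRk : R.coeff (k + 1) = f.coeff (k + 2) - (gt 0)⁻¹ * gt 1 := by
    rw [hR, coeff_C_mul, coeff_sub, hDc, finsetSum_coeff, Finset.sum_range_succ', Finset.sum_eq_zero, zero_add,
      coeff_C_mul, hρ, Nat.sub_zero, rho_coeff_self, mul_one, mul_sub, ← mul_assoc, inv_mul_cancel₀ hgt0, one_mul]
    intro i hi
    rw [coeff_C_mul, hρ, rho_coeff_gt β (by omega), mul_zero]
  set r : F[X] := X * ρ (k + 1) - R with hr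
  obtain ⟨u, hu, huk⟩ := newton β (k + 1) r (by
    intro j hj
    obtain ⟨i, rfl⟩ : ∃ i, j = i + 1 := ⟨j - 1, by omega⟩
    rw [hr, coeff_sub, coeff_X_mul, hRc _ (by omega)]
    rcases Nat.eq_or_lt_of_le (show k + 1 ≤ i by omega) with h1 | h1
    · rw [← h1, hρ, rho_coeff_self, show k + 1 + 1 + 1 = k + 3 by omega, hfc, sub_self]
    · rw [hρ, rho_coeff_gt β h1, zero_sub, neg_eq_zero]
      exact coeff_eq_zero_of_natDegree_lt (by omega))
  have hu0 : u (k + 1) ≠ 0 := by
    rw [huk, hr, coeff_sub, coeff_X_mul, hRk, hρ, rho_next, hβs]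
    intro h
    apply hs
    rw [← h]
    ring
  -- the operators
  let b : ℕ → Fin (k + 3) → F := bb F (k + 3)
  let w : ℕ → Fin (k + 3) → F := fun j =>
    if j = k + 2 then ∑ i ∈ Finset.range (k + 2), u i • b i else if j = 0 then 0 else β (j - 1) • b (j - 1)
  have hw0 : w 0 = 0 := by
    show (if 0 = k + 2 then ∑ i ∈ Finset.range (k + 2), u i • b i else if 0 = 0 then 0 else β (0 - 1) • b (0 - 1)) = 0
    rw [if_neg (by omega), if_pos rfl]
  have hw1 : ∀ j, j < k + 1 → w (j + 1) = β j • b j := by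
    intro j hj
    show (if j + 1 = k + 2 then ∑ i ∈ Finset.range (k + 2), u i • b i else if j + 1 = 0 then 0 else
      β (j + 1 - 1) • b (j + 1 - 1)) = β j • b j
    rw [if_neg (by omega), if_neg (by omega), Nat.add_sub_cancel]
  have hw2 : w (k + 2) = ∑ i ∈ Finset.range (k + 2), u i • b i := by
    exact if_pos rfl
  let N : End F (Fin (k + 3) → F) := op w
  let T : End F (Fin (k + 3) → F) := op fun j =>
    if j = 0 then -∑ i ∈ Finset.range (k + 3), gt i • b (k + 2 - i) else b (j - 1)
  let S : End F (Fin (k + 3) → F) := op fun j => if j < k + 2 then b (j + 1) + w (j + 1) else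
    -((gt 0)⁻¹ • (b 0 + ∑ i ∈ Finset.range (k + 2), gt (i + 1) • (b (k + 2 - i) + w (k + 2 - i))))
  have hN : ∀ j, j < k + 3 → N (b j) = w j := fun j hj => op_apply w hj
  have hT0 : T (b 0) = -∑ i ∈ Finset.range (k + 3), gt i • b (k + 2 - i) := by
    simp only [T, b]
    rw [op_apply _ (by omega), if_pos rfl]
  have hT1 : ∀ j, j < k + 2 → T (b (j + 1)) = b j := by
    intro j hj
    simp only [T, b]
    rw [op_apply _ (by omega), if_neg (by omega), Nat.add_sub_cancel]
  have hS1 : ∀ j, j < k + 2 → S (b j) = b (j + 1) + w (j + 1) := by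
    intro j hj
    simp only [S, b]
    rw [op_apply _ (by omega), if_pos hj]
  have hS2 : S (b (k + 2)) =
      -((gt 0)⁻¹ • (b 0 + ∑ i ∈ Finset.range (k + 2), gt (i + 1) • (b (k + 2 - i) + w (k + 2 - i)))) := by
    simp only [S, b]
    rw [op_apply _ (by omega), if_neg (by omega)]
  have hSsum : gt 0 • S (b (k + 2)) + ∑ i ∈ Finset.range (k + 2), gt (i + 1) • S (b (k + 1 - i)) = -b 0 := by
    have h1 : ∑ i ∈ Finset.range (k + 2), gt (i + 1) • S (b (k + 1 - i)) =
        ∑ i ∈ Finset.range (k + 2), gt (i + 1) • (b (k + 2 - i) + w (k + 2 - i)) := by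
      refine Finset.sum_congr rfl fun i hi => ?_
      have := Finset.mem_range.1 hi
      rw [hS1 _ (by omega), show k + 1 - i + 1 = k + 2 - i by omega]
    rw [hS2, smul_neg, smul_smul, mul_inv_cancel₀ hgt0, one_smul, h1]
    abel
  -- the product
  have hST : S * T = 1 + N := by
    refine op_ext fun j hj => ?_
    change S (T (b j)) = b j + N (b j)
    rw [hN j hj]
    rcases j with _ | j
    · rw [hT0, hw0, add_zero, map_neg, map_sum, Finset.sum_range_succ']
      simp only [map_smul]
      rw [Nat.sub_zero]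
      have h1 : ∑ i ∈ Finset.range (k + 2), gt (i + 1) • S (b (k + 2 - (i + 1))) =
          ∑ i ∈ Finset.range (k + 2), gt (i + 1) • S (b (k + 1 - i)) := by
        refine Finset.sum_congr rfl fun i _ => ?_
        rw [show k + 2 - (i + 1) = k + 1 - i by omega]
      rw [h1, add_comm (∑ i ∈ Finset.range (k + 2), gt (i + 1) • S (b (k + 1 - i))), hSsum, neg_neg]
    · rw [hT1 j (by omega), hS1 j (by omega)]
  -- the powers of `S`
  have hSρ : ∀ j, j < k + 2 → aeval S (ρ j) (b 0) = b j := by
    intro j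
    induction j with
    | zero =>
      intro _
      rw [hρ, rho, map_one, Module.End.one_apply]
    | succ j ih =>
      intro hj
      rw [hρ, rho, map_mul, Module.End.mul_apply, ← hρ, ih (by omega), map_sub, aeval_X, aeval_C, LinearMap.sub_apply,
        Module.algebraMap_end_apply, hS1 j (by omega), hw1 j (by omega), add_sub_cancel_right]
  have hSR : aeval S R (b 0) = b (k + 2) := by
    have h1 : R = X * ρ (k + 1) - r := by rw [hr]; ring
    rw [h1, hu, map_sub, map_mul, aeval_X, LinearMap.sub_apply, Module.End.mul_apply, hSρ _ (by omega), hS1 _ (by omega),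
      hw2, map_sum, LinearMap.sum_apply, sub_eq_iff_eq_add]
    congr 1
    refine Finset.sum_congr rfl fun i hi => ?_
    rw [map_mul, aeval_C, Module.End.mul_apply, Module.algebraMap_end_apply, ← hρ, hSρ i (Finset.mem_range.1 hi)]
  have hSD : aeval S D (b 0) = gt 0 • b (k + 2) + ∑ i ∈ Finset.range (k + 2), gt (i + 1) • b (k + 1 - i) := by
    rw [hDR, map_add, LinearMap.add_apply, map_mul, aeval_C, Module.End.mul_apply, Module.algebraMap_end_apply, hSR,
      map_sum, LinearMap.sum_apply]
    congr 1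
    refine Finset.sum_congr rfl fun i hi => ?_
    rw [map_mul, aeval_C, Module.End.mul_apply, Module.algebraMap_end_apply, hSρ _ (by omega)]
  have hSf : aeval S f (b 0) = 0 := by
    have h1 : gt 0 • aeval S f (b 0) = 0 := by
      have h2 : gt 0 • aeval S f (b 0) = aeval S (C (gt 0) * f) (b 0) := by
        rw [map_mul, aeval_C, Module.End.mul_apply, Module.algebraMap_end_apply]
      rw [h2, hDf, map_add, map_one, LinearMap.add_apply, Module.End.one_apply, map_mul, aeval_X, Module.End.mul_apply,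
        hSD, map_add, map_smul, map_sum]
      simp only [map_smul]
      rw [hSsum, add_neg_cancel]
    exact (smul_eq_zero.1 h1).resolve_left hgt0
  have hScyc : Cyc S (b 0) := by
    intro U h0 hU
    have key : ∀ j, j < k + 3 → ∀ i, i ≤ j → b i ∈ U := by
      intro j
      induction j with
      | zero =>
        intro _ i hi
        rw [Nat.le_zero.1 hi]
        exact h0
      | succ j ih =>
        intro hj i hi
        rcases Nat.eq_or_lt_of_le hi with h1 | h1
        · have h2 := hU _ (ih (by omega) j le_rfl)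
          rw [hS1 j (by omega)] at h2
          rw [h1]
          refine (Submodule.add_mem_iff_left U ?_).1 h2
          rcases Nat.lt_or_ge j (k + 1) with h3 | h3
          · rw [hw1 j h3]
            exact U.smul_mem _ (ih (by omega) j le_rfl)
          · have h4 : j = k + 1 := by omega
            rw [h4, hw2]
            refine U.sum_mem fun i hi => U.smul_mem _ (ih (by omega) i ?_)
            have := Finset.mem_range.1 hi
            omega
        · exact ih (by omega) i (by omega)
    exact top_of_bb fun j hj => key j hj j le_rfl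
  have hdim : finrank F (Fin (k + 3) → F) = k + 3 := finrank_fin_fun F
  have hcS : S.charpoly = f := charpoly_eq hScyc hf (by rw [hfn, hdim]) hSf
  -- the operator `a T`
  have hTp : ∀ i, i < k + 3 → ((a • T) ^ i) (b (k + 2)) = a ^ i • b (k + 2 - i) := by
    intro i
    induction i with
    | zero =>
      intro _
      rw [pow_zero, Module.End.one_apply, pow_zero, one_smul, Nat.sub_zero]
    | succ i ih =>
      intro hi
      rw [pow_succ', Module.End.mul_apply, ih (by omega), map_smul, LinearMap.smul_apply,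
        show k + 2 - i = (k + 2 - (i + 1)) + 1 by omega, hT1 _ (by omega), smul_smul, ← pow_succ]
  have hTkill : aeval (a • T) g (b (k + 2)) = 0 := by
    rw [aeval_eq_sum_range, hgn, LinearMap.sum_apply, Finset.sum_range_succ]
    have h1 : g.coeff (k + 3) = 1 := by
      rw [← hgn]
      exact hg.coeff_natDegree
    rw [h1, one_smul, pow_succ', Module.End.mul_apply, hTp _ (by omega), Nat.sub_self, map_smul, LinearMap.smul_apply, hT0,
      smul_neg, smul_neg, smul_smul, ← pow_succ, Finset.smul_sum, ← sub_eq_add_neg, sub_eq_zero]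
    refine Finset.sum_congr rfl fun i hi => ?_
    rw [LinearMap.smul_apply, hTp i (Finset.mem_range.1 hi), smul_smul, smul_smul]
    congr 1
    rw [hgt]
    simp only
    rw [mul_div_cancel₀ _ hak]
  have hTcyc : Cyc (a • T) (b (k + 2)) := by
    intro U h0 hU
    have key : ∀ i, i < k + 3 → b (k + 2 - i) ∈ U := by
      intro i
      induction i with
      | zero =>
        intro _
        exact h0
      | succ i ih =>
        intro hi
        have h2 := hU _ (ih (by omega))
        rw [LinearMap.smul_apply, show k + 2 - i = (k + 2 - (i + 1)) + 1 by omega, hT1 _ (by omega)] at h2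
        exact (U.smul_mem_iff ha).1 h2
    refine top_of_bb fun j hj => ?_
    have := key (k + 2 - j) (by omega)
    rwa [show k + 2 - (k + 2 - j) = j by omega] at this
  have hcT : (a • T).charpoly = g := charpoly_eq hTcyc hg (by rw [hgn, hdim]) hTkill
  -- the nilpotent operator
  have hNp : ∀ j, j < k + 2 → (N ^ j) (b j) = (∏ i ∈ Finset.range j, β i) • b 0 ∧ ∀ i, j < i → (N ^ i) (b j) = 0 := by
    intro j
    induction j with
    | zero =>
      intro _
      refine ⟨by rw [pow_zero, Module.End.one_apply, Finset.range_zero, Finset.prod_empty, one_smul], fun i hi => ?_⟩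
      obtain ⟨i', rfl⟩ : ∃ i', i = i' + 1 := ⟨i - 1, by omega⟩
      rw [pow_succ, Module.End.mul_apply, hN 0 (by omega), hw0, map_zero]
    | succ j ih =>
      intro hj
      obtain ⟨h1, h2⟩ := ih (by omega)
      refine ⟨?_, fun i hi => ?_⟩
      · rw [pow_succ, Module.End.mul_apply, hN _ (by omega), hw1 _ (by omega), map_smul, h1, smul_smul,
          Finset.prod_range_succ, mul_comm]
      · obtain ⟨i', rfl⟩ : ∃ i', i = i' + 1 := ⟨i - 1, by omega⟩
        rw [pow_succ, Module.End.mul_apply, hN _ (by omega), hw1 _ (by omega), map_smul, h2 i' (by omega), smul_zero]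
  have hNtop : (N ^ (k + 2)) (b (k + 2)) = (u (k + 1) * ∏ i ∈ Finset.range (k + 1), β i) • b 0 := by
    rw [show (N ^ (k + 2)) = N ^ (k + 1) * N from pow_succ N (k + 1), Module.End.mul_apply, hN _ (by omega), hw2, map_sum,
      Finset.sum_range_succ, map_smul, (hNp (k + 1) (by omega)).1, smul_smul, Finset.sum_eq_zero, zero_add]
    intro i hi
    have := Finset.mem_range.1 hi
    rw [map_smul, (hNp i (by omega)).2 (k + 1) (by omega), smul_zero]
  refine ⟨S, a • T, N, ?_, hcS, hcT, ?_, ?_⟩
  · rw [mul_smul_comm, hST]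
  · refine op_ext fun j hj => ?_
    rw [LinearMap.zero_apply]
    rcases Nat.lt_or_ge j (k + 2) with h1 | h1
    · exact (hNp j h1).2 _ (by omega)
    · have h2 : j = k + 2 := by omega
      rw [h2]
      change (N ^ (k + 2 + 1)) (b (k + 2)) = 0
      rw [pow_succ', Module.End.mul_apply, hNtop, map_smul, hN 0 (by omega), hw0, smul_zero]
  · intro h
    have h1 := hNtop
    rw [h, LinearMap.zero_apply] at h1
    have h2 : u (k + 1) * ∏ i ∈ Finset.range (k + 1), β i ≠ 0 :=
      mul_ne_zero hu0 (Finset.prod_ne_zero_iff.2 fun i _ => hβ0 i)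
    exact (smul_ne_zero h2 (bb_ne (by omega))) h1.symm

end

section sim

variable {V W : Type*} [AddCommGroup V] [Module F V] [AddCommGroup W] [Module F W]

theorem li_nil {N : End F V} {n : ℕ} (hN : N ^ (n + 1) = 0) {v : V} (hv : (N ^ n) v ≠ 0) :
    LinearIndependent F (fun i : Fin (n + 1) => (N ^ (i : ℕ)) v) := by
  rw [Fintype.linearIndependent_iff]
  intro c hc
  have key : ∀ m : ℕ, ∀ i : Fin (n + 1), (i : ℕ) < m → c i = 0 := by
    intro m
    induction m with
    | zero =>
      intro i hi
      exact absurd hi (Nat.not_lt_zero _)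
    | succ m ih =>
      intro i hi
      rcases Nat.eq_or_lt_of_le (Nat.lt_succ_iff.1 hi) with h1 | h1
      · have h2 := congrArg (N ^ (n - m)) hc
        rw [map_sum, map_zero, Finset.sum_eq_single i] at h2
        · rw [map_smul, ← Module.End.mul_apply, ← pow_add, h1, show n - m + m = n by have := i.2; omega] at h2
          exact (smul_eq_zero.1 h2).resolve_right hv
        · intro j _ hji
          rw [map_smul, ← Module.End.mul_apply, ← pow_add]
          rcases Nat.lt_or_ge (j : ℕ) m with h3 | h3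
          · rw [ih j h3, zero_smul]
          · have h4 : (j : ℕ) ≠ i := fun h => hji (Fin.ext h)
            rw [show n - m + (j : ℕ) = (n + 1) + (n - m + j - (n + 1)) by have := i.2; omega, pow_add, hN, zero_mul,
              LinearMap.zero_apply, smul_zero]
        · intro h
          exact absurd (Finset.mem_univ _) h
      · exact ih i h1
  exact fun i => key (n + 1) i i.2

/-- two regular nilpotent operators are similar -/
theorem sim_nil {n : ℕ} {N : End F V} {N' : End F W} (hV : finrank F V = n + 1) (hW : finrank F W = n + 1)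
    (hN : N ^ (n + 1) = 0) (hN1 : N ^ n ≠ 0) (hN' : N' ^ (n + 1) = 0) (hN1' : N' ^ n ≠ 0) :
    ∃ E : V ≃ₗ[F] W, ∀ v, E (N v) = N' (E v) := by
  obtain ⟨v, hv⟩ : ∃ v, (N ^ n) v ≠ 0 := by
    by_contra h
    push Not at h
    exact hN1 (LinearMap.ext h)
  obtain ⟨w, hw⟩ : ∃ w, (N' ^ n) w ≠ 0 := by
    by_contra h
    push Not at h
    exact hN1' (LinearMap.ext h)
  let B := basisOfLinearIndependentOfCardEqFinrank (li_nil hN hv) (by rw [Fintype.card_fin, hV])
  let B' := basisOfLinearIndependentOfCardEqFinrank (li_nil hN' hw) (by rw [Fintype.card_fin, hW])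
  have hB : ∀ i : Fin (n + 1), B i = (N ^ (i : ℕ)) v := fun i => by
    simp only [B, coe_basisOfLinearIndependentOfCardEqFinrank]
  have hB' : ∀ i : Fin (n + 1), B' i = (N' ^ (i : ℕ)) w := fun i => by
    simp only [B', coe_basisOfLinearIndependentOfCardEqFinrank]
  let E := B.equiv B' (Equiv.refl _)
  have hE : ∀ i : ℕ, i < n + 1 → E ((N ^ i) v) = (N' ^ i) w := by
    intro i hi
    have := B.equiv_apply ⟨i, hi⟩ B' (Equiv.refl _)
    rw [hB, Equiv.refl_apply, hB'] at this
    exact this
  refine ⟨E, fun x => ?_⟩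
  have h : E.toLinearMap ∘ₗ N = N' ∘ₗ E.toLinearMap := by
    refine B.ext fun i => ?_
    rw [LinearMap.comp_apply, LinearMap.comp_apply, LinearEquiv.coe_coe, hB, hE _ i.2, ← Module.End.mul_apply,
      ← Module.End.mul_apply, ← pow_succ', ← pow_succ']
    rcases Nat.lt_or_ge ((i : ℕ) + 1) (n + 1) with h1 | h1
    · exact hE _ h1
    · have h2 : (i : ℕ) + 1 = n + 1 := le_antisymm (by have := i.2; omega) h1
      rw [h2, hN, hN', LinearMap.zero_apply, LinearMap.zero_apply, map_zero]
  exact LinearMap.congr_fun h x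

end sim

/-- **Theorem L, cyclic case (i)**: `A` with characteristic polynomial `(X - a) ^ n`, `(A - a) ^ (n - 1) ≠ 0`, `n ≥ 3`, `F` has an element
different from `0, 1`; `f`, `g` arbitrary. -/
theorem uni (h3 : ∃ t : F, t ≠ 0 ∧ t ≠ 1) {k : ℕ} (A : Matrix (Fin (k + 3)) (Fin (k + 3)) F) {a : F} (ha : a ≠ 0)
    (hA : A.charpoly = (X - C a) ^ (k + 3)) (hA1 : (A - a • 1) ^ (k + 2) ≠ 0) {f g : F[X]} (hf : f.Monic)
    (hfn : f.natDegree = k + 3) (hg : g.Monic) (hgn : g.natDegree = k + 3) (h0 : f.coeff 0 * g.coeff 0 = A.det) :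
    Cfsg.Agent.H957.TL.Fac A f g := by
  have hdet : A.det = a ^ (k + 3) := by
    rw [Matrix.det_eq_sign_charpoly_coeff, hA, Fintype.card_fin, coeff_zero_eq_eval_zero, eval_pow, eval_sub, eval_X, eval_C,
      zero_sub, ← mul_pow, neg_mul_neg, one_mul]
  obtain ⟨S, T, N, hST, hS, hT, hN, hN1⟩ := model hf hfn hg hgn ha (by rw [h0, hdet]) h3
  have hA0 : (A - a • 1) ^ (k + 3) = 0 := by
    have h1 := Matrix.aeval_self_charpoly A
    rw [hA, map_pow, map_sub, aeval_X, aeval_C, Matrix.algebraMap_eq_diagonal] at h1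
    rw [← h1]
    congr 2
    rw [Matrix.smul_one_eq_diagonal]
    rfl
  let M : End F (Fin (k + 3) → F) := a⁻¹ • (Matrix.toLin' (A - a • 1))
  have hM : ∀ i, M ^ i = (a⁻¹) ^ i • Matrix.toLin' ((A - a • 1) ^ i) := by
    intro i
    rw [_root_.smul_pow, Matrix.toLin'_pow]
  obtain ⟨E, hE⟩ := sim_nil (n := k + 2) (N := M) (N' := N) (finrank_fin_fun F) (finrank_fin_fun F) (by
    rw [hM, hA0, map_zero, smul_zero]) (by
    rw [hM]
    refine smul_ne_zero (pow_ne_zero _ (inv_ne_zero ha)) ?_
    rwa [Ne, LinearEquiv.map_eq_zero_iff]) hN hN1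
  have hAM : Matrix.toLin' A = a • (1 + M) := by
    rw [smul_add, smul_smul, mul_inv_cancel₀ ha, one_smul, map_sub, map_smul, Matrix.toLin'_one]
    change _ = a • LinearMap.id + _
    abel
  have hprod : (E.symm.conj S) * (E.symm.conj T) = Matrix.toLin' A := by
    rw [hAM]
    refine LinearMap.ext fun v => ?_
    change E.symm (S (E (E.symm (T (E v))))) = _
    rw [LinearEquiv.apply_symm_apply, ← Module.End.mul_apply, hST, LinearEquiv.symm_apply_eq]
    simp only [LinearMap.smul_apply, LinearMap.add_apply, Module.End.one_apply, map_smul, map_add, hE]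
  refine ⟨LinearMap.toMatrix' (E.symm.conj S), LinearMap.toMatrix' (E.symm.conj T), ?_, ?_, ?_⟩
  · rw [← LinearMap.toMatrix'_mul, hprod, LinearMap.toMatrix'_toLin']
  · rw [← Matrix.charpoly_toLin', Matrix.toLin'_toMatrix', LinearEquiv.charpoly_conj, hS]
  · rw [← Matrix.charpoly_toLin', Matrix.toLin'_toMatrix', LinearEquiv.charpoly_conj, hT]

/-- a nilpotent operator with a kernel of dimension at most one is regular -/
theorem pow_ne_zero_of_ker {V : Type*} [AddCommGroup V] [Module F V] [FiniteDimensional F V] {N : End F V}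
    (hk : finrank F (LinearMap.ker N) ≤ 1) : ∀ i : ℕ, i < finrank F V → N ^ i ≠ 0 := by
  have key : ∀ i : ℕ, finrank F V ≤ finrank F (LinearMap.range (N ^ i)) + i := by
    intro i
    induction i with
    | zero =>
      rw [pow_zero, Module.End.one_eq_id, LinearMap.range_id, finrank_top, add_zero]
    | succ i ih =>
      let R := LinearMap.range (N ^ i)
      have h1 := LinearMap.finrank_range_add_finrank_ker (N.domRestrict R)
      have h2 : LinearMap.range (N.domRestrict R) = LinearMap.range (N ^ (i + 1)) := by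
        ext x
        constructor
        · rintro ⟨⟨y, z, hz⟩, rfl⟩
          refine ⟨z, ?_⟩
          rw [pow_succ', Module.End.mul_apply, hz]
          rfl
        · rintro ⟨z, rfl⟩
          refine ⟨⟨(N ^ i) z, z, rfl⟩, ?_⟩
          rw [pow_succ', Module.End.mul_apply]
          rfl
      have h3 : finrank F (LinearMap.ker (N.domRestrict R)) ≤ finrank F (LinearMap.ker N) := by
        refine LinearMap.finrank_le_finrank_of_injective (f := LinearMap.codRestrict (LinearMap.ker N)
          (R.subtype ∘ₗ (LinearMap.ker (N.domRestrict R)).subtype) (fun x => x.2)) ?_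
        intro x y hxy
        have := congrArg Subtype.val hxy
        exact Subtype.ext (Subtype.ext this)
      have h4 : finrank F R = finrank F (LinearMap.range (N ^ i)) := rfl
      rw [h2, h4] at h1
      omega
  intro i hi h
  have h1 := key i
  rw [h, LinearMap.range_zero, finrank_bot] at h1
  omega

/-- **Theorem L, cyclic case (i)**, form with the kernel and any `n ≥ 3` -/
theorem uni_n (h3 : ∃ t : F, t ≠ 0 ∧ t ≠ 1) {n : ℕ} (hn : 3 ≤ n) (A : Matrix (Fin n) (Fin n) F) {a : F} (ha : a ≠ 0)
    (hA : A.charpoly = (X - C a) ^ n) (hk : finrank F (LinearMap.ker (Matrix.toLin' (A - a • 1))) ≤ 1) {f g : F[X]}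
    (hf : f.Monic) (hfn : f.natDegree = n) (hg : g.Monic) (hgn : g.natDegree = n) (h0 : f.coeff 0 * g.coeff 0 = A.det) :
    Cfsg.Agent.H957.TL.Fac A f g := by
  obtain ⟨k, rfl⟩ : ∃ k, n = k + 3 := ⟨n - 3, by omega⟩
  refine uni h3 A ha hA ?_ hf hfn hg hgn h0
  intro h
  apply pow_ne_zero_of_ker hk (k + 2) (by rw [finrank_fin_fun]; omega)
  rw [← Matrix.toLin'_pow, h, map_zero]

end Cfsg.Agent.H130.TL
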