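import Cfsg.Agent.H130.TL.Uni

/-!
# Theorem L (S2464): the cyclic case, form without the characteristic polynomial (helper130)
-/

set_option autoImplicit false

namespace Cfsg.Agent.H130.TL

open Module Polynomial

variable {F : Type*} [Field F]

theorem charpoly_of_nil {n : ℕ} (hn : 1 ≤ n) (A : Matrix (Fin n) (Fin n) F) {a : F}
    (h0 : (A - Matrix.scalar (Fin n) a) ^ n = 0) (h1 : (A - Matrix.scalar (Fin n) a) ^ (n - 1) ≠ 0) :
    A.charpoly = (X - C a) ^ n := by
  have hae : ∀ i : ℕ, aeval A ((X - C a) ^ i) = (A - Matrix.scalar (Fin n) a) ^ i := by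
    intro i
    rw [map_pow, map_sub, aeval_X, aeval_C]
    rfl
  have h2 : minpoly F A ∣ (X - C a) ^ n := minpoly.dvd F A (by rw [hae, h0])
  obtain ⟨i, hi, hassoc⟩ := (dvd_prime_pow (prime_X_sub_C a) n).1 h2
  have h3 : minpoly F A = (X - C a) ^ i :=
    eq_of_monic_of_associated (minpoly.monic (Matrix.isIntegral A)) ((monic_X_sub_C a).pow i) hassoc
  have h4 : i = n := by
    by_contra h
    apply h1
    have h5 : (A - Matrix.scalar (Fin n) a) ^ i = 0 := by
      rw [← hae, ← h3, minpoly.aeval]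
    rw [show n - 1 = i + (n - 1 - i) by omega, pow_add, h5, zero_mul]
  rw [h4] at h3
  refine eq_of_monic_of_dvd_of_natDegree_le ?_ (Matrix.charpoly_monic A) (h3 ▸ Matrix.minpoly_dvd_charpoly A) ?_
  · exact (monic_X_sub_C a).pow n
  · rw [Matrix.charpoly_natDegree_eq_dim, Fintype.card_fin, (monic_X_sub_C a).natDegree_pow, natDegree_X_sub_C, mul_one]

/-- cyclic case (i) with `scalar` -/
theorem uni_scalar (h3 : ∃ t : F, t ≠ 0 ∧ t ≠ 1) {n : ℕ} (hn : 3 ≤ n) (A : Matrix (Fin n) (Fin n) F) {a : F} (hdet : A.det ≠ 0)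
    (h0 : (A - Matrix.scalar (Fin n) a) ^ n = 0) (h1 : (A - Matrix.scalar (Fin n) a) ^ (n - 1) ≠ 0) {f g : F[X]}
    (hf : f.Monic) (hfn : f.natDegree = n) (hg : g.Monic) (hgn : g.natDegree = n) (hfg : f.coeff 0 * g.coeff 0 = A.det) :
    Cfsg.Agent.H957.TL.Fac A f g := by
  have hc := charpoly_of_nil (by omega) A h0 h1
  have ha : a ≠ 0 := by
    rintro rfl
    apply hdet
    rw [Matrix.det_eq_sign_charpoly_coeff, hc, coeff_zero_eq_eval_zero]
    simp only [map_zero, sub_zero, eval_pow, eval_X, zero_pow (show n ≠ 0 by omega), mul_zero]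
  obtain ⟨k, rfl⟩ : ∃ k, n = k + 3 := ⟨n - 3, by omega⟩
  refine uni h3 A ha hc ?_ hf hfn hg hgn hfg
  rwa [Matrix.smul_one_eq_diagonal]

end Cfsg.Agent.H130.TL
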